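import Mathlib.Algebra.BigOperators.Fin
import Mathlib.Algebra.Order.BigOperators.Group.Finset
import Mathlib.Algebra.Order.BigOperators.Ring.Finset
import Mathlib.Algebra.Ring.Int.Parity
import Mathlib.Data.Fintype.BigOperators
import Mathlib.Tactic.Linarith
import Mathlib.Tactic.Ring

/-!
# The integer end of the case `E = 3 x 3`, `D = 2 ^ 4` (helper603, for S4577; mathematics of helper696)

`x 0, ..., x 3` and `y 0, ..., y 3` orthogonal integer vectors of norm 4 with the same sum `d` (no zero entry), `(x i, y j) = 1`, at least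
8 coordinates => all entries of `d` are odd.

Proof: no entry of `x i` is `± 2`; `(d, x i) = 4 = |x i| ^ 2` gives: the number of nonzero entries of `x i` at the even coordinates
of `d` is even; `|d| ^ 2 = 16` gives at most two even coordinates. One even coordinate: all `x i` vanish there. Two of them: `d = ± 2`
there and `± 1` elsewhere, `(d, x i) = 4` gives `d x i = 0` at both or `2` at both (the same for `y j`), two `x i` are nonzero there, their
sum vanishes elsewhere, and the product with `y j` gives `2 t = 2`, `t ∈ {0, 2}`.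
-/

set_option autoImplicit false

namespace Cfsg.Agent.H603.DX

variable {ι : Type*} [Fintype ι]

theorem entry_le {x : Fin 4 → ι → ℤ} {y : Fin 4 → ι → ℤ} (hx : ∀ i j, ∑ c, x i c * x j c = if i = j then 4 else 0)
    (hxy : ∀ i j, ∑ c, x i c * y j c = 1) (i : Fin 4) (c : ι) : x i c = 0 ∨ x i c = 1 ∨ x i c = -1 := by
  classical
  have h1 := hx i i
  rw [if_pos rfl] at h1
  have hle : x i c * x i c ≤ 4 := by
    rw [← h1]
    exact Finset.single_le_sum (f := fun c => x i c * x i c) (fun c _ => mul_self_nonneg _) (Finset.mem_univ c)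
  have hb1 : x i c ≤ 2 := by nlinarith
  have hb2 : -2 ≤ x i c := by nlinarith
  have hne : ¬ (x i c = 2 ∨ x i c = -2) := by
    intro h2
    have h4 : x i c * x i c = 4 := by rcases h2 with h | h <;> rw [h] <;> norm_num
    have h3 : ∀ c', c' ≠ c → x i c' = 0 := by
      intro c' hc
      have h5 : x i c * x i c + x i c' * x i c' ≤ 4 := by
        rw [← h1, ← Finset.sum_pair (f := fun c => x i c * x i c) hc.symm]
        exact Finset.sum_le_sum_of_subset_of_nonneg (Finset.subset_univ _) fun _ _ _ => mul_self_nonneg _
      have h6 : x i c' * x i c' = 0 := le_antisymm (by linarith) (mul_self_nonneg _)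
      exact mul_self_eq_zero.1 h6
    have h5 := hxy i 0
    rw [Finset.sum_eq_single c (fun c' _ hc => by rw [h3 c' hc, zero_mul]) (fun h => absurd (Finset.mem_univ c) h)] at h5
    rcases h2 with h | h <;> rw [h] at h5 <;> omega
  omega

theorem sum_d {x : Fin 4 → ι → ℤ} {d : ι → ℤ} (hx : ∀ i j, ∑ c, x i c * x j c = if i = j then 4 else 0)
    (hxd : ∀ c, ∑ i, x i c = d c) (i : Fin 4) : ∑ c, d c * x i c = 4 := by
  have h : ∑ c, d c * x i c = ∑ j, ∑ c, x j c * x i c := by
    rw [Finset.sum_comm]
    refine Finset.sum_congr rfl fun c _ => ?_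
    rw [← hxd c, Finset.sum_mul]
  rw [h]
  simp only [hx]
  simp

theorem sum_dd {x : Fin 4 → ι → ℤ} {d : ι → ℤ} (hx : ∀ i j, ∑ c, x i c * x j c = if i = j then 4 else 0)
    (hxd : ∀ c, ∑ i, x i c = d c) : ∑ c, d c * d c = 16 := by
  have h : ∑ c, d c * d c = ∑ i, ∑ c, d c * x i c := by
    rw [Finset.sum_comm]
    refine Finset.sum_congr rfl fun c _ => ?_
    rw [← Finset.mul_sum, hxd c]
  rw [h]
  simp only [sum_d hx hxd]
  simp

open scoped Classical in
theorem even_sum {x : Fin 4 → ι → ℤ} {d : ι → ℤ} (hx : ∀ i j, ∑ c, x i c * x j c = if i = j then 4 else 0)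
    (hxd : ∀ c, ∑ i, x i c = d c) (i : Fin 4) : Even (∑ c ∈ Finset.univ.filter (fun c => Even (d c)), x i c * x i c) := by
  have h1 := hx i i
  rw [if_pos rfl] at h1
  have h2 := sum_d hx hxd i
  have h3 : ∑ c, (x i c * x i c - d c * x i c) = 0 := by rw [Finset.sum_sub_distrib, h1, h2]; norm_num
  rw [← Finset.sum_filter_add_sum_filter_not Finset.univ (fun c => Even (d c))] at h3
  have h4 : Even (∑ c ∈ Finset.univ.filter (fun c => ¬ Even (d c)), (x i c * x i c - d c * x i c)) := by
    refine Finset.sum_induction _ Even (fun a b => Even.add) Even.zero fun c hc => ?_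
    have h5 : Odd (d c) := Int.not_even_iff_odd.1 (Finset.mem_filter.1 hc).2
    have h6 : x i c * x i c - d c * x i c = (x i c - d c) * x i c := by ring
    rw [h6]
    rcases Int.even_or_odd (x i c) with h | h
    · exact Even.mul_left h _
    · exact Even.mul_right (h.sub_odd h5) _
  have h5 : Even (∑ c ∈ Finset.univ.filter (fun c => Even (d c)), d c * x i c) :=
    Finset.sum_induction _ Even (fun a b => Even.add) Even.zero fun c hc => Even.mul_right (Finset.mem_filter.1 hc).2 _
  rw [Finset.sum_sub_distrib] at h3
  have h6 : ∑ c ∈ Finset.univ.filter (fun c => Even (d c)), x i c * x i c =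
      ∑ c ∈ Finset.univ.filter (fun c => Even (d c)), d c * x i c -
      ∑ c ∈ Finset.univ.filter (fun c => ¬ Even (d c)), (x i c * x i c - d c * x i c) := by linarith
  rw [h6]
  exact h5.sub h4

open scoped Classical in
/-- the situation with two even coordinates -/
theorem two_even {x y : Fin 4 → ι → ℤ} {d : ι → ℤ} (hx : ∀ i j, ∑ c, x i c * x j c = if i = j then 4 else 0)
    (hxy : ∀ i j, ∑ c, x i c * y j c = 1) (hxd : ∀ c, ∑ i, x i c = d c) {e f : ι} (hef : e ≠ f)
    (hE : Finset.univ.filter (fun c => Even (d c)) = {e, f}) (he : d e = 2 ∨ d e = -2) (hf : d f = 2 ∨ d f = -2)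
    (h1 : ∀ c, c ≠ e → c ≠ f → d c = 1 ∨ d c = -1) (i : Fin 4) :
    d e * x i e = d f * x i f ∧ (d e * x i e = 0 ∨ d e * x i e = 2) := by
  have h2 := even_sum hx hxd i
  rw [hE, Finset.sum_pair hef] at h2
  have h3 := sum_d hx hxd i
  have h4 := hx i i
  rw [if_pos rfl] at h4
  rw [← Finset.sum_filter_add_sum_filter_not Finset.univ (fun c => Even (d c)), hE, Finset.sum_pair hef] at h3 h4
  have h5 : ∑ c ∈ Finset.univ.filter (fun c => ¬ Even (d c)), d c * x i c ≤
      ∑ c ∈ Finset.univ.filter (fun c => ¬ Even (d c)), x i c * x i c := by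
    refine Finset.sum_le_sum fun c hc => ?_
    have h6 : c ∉ ({e, f} : Finset ι) := by
      rw [← hE, Finset.mem_filter]
      exact fun h => (Finset.mem_filter.1 hc).2 h.2
    rw [Finset.mem_insert, Finset.mem_singleton, not_or] at h6
    have h7 := h1 c h6.1 h6.2
    have h8 := entry_le hx hxy i c
    rcases h7 with h7 | h7 <;> rcases h8 with h8 | h8 | h8 <;> rw [h7, h8] <;> norm_num
  have h6 := entry_le hx hxy i e
  have h7 := entry_le hx hxy i f
  obtain ⟨r, hr⟩ := h2
  generalize ∑ c ∈ Finset.univ.filter (fun c => ¬ Even (d c)), d c * x i c = S1 at h3 h5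
  generalize ∑ c ∈ Finset.univ.filter (fun c => ¬ Even (d c)), x i c * x i c = S2 at h4 h5
  generalize d e = de at h3 he ⊢
  generalize d f = df at h3 hf ⊢
  generalize x i e = xe at hr h3 h4 h6 ⊢
  generalize x i f = xf at hr h3 h4 h7 ⊢
  clear hE h1 hx hxy hxd
  rcases he with rfl | rfl <;> rcases hf with rfl | rfl <;> rcases h6 with rfl | rfl | rfl <;> rcases h7 with rfl | rfl | rfl <;>
    omega

/-- **The integer end.** -/
theorem int_end {x y : Fin 4 → ι → ℤ} {d : ι → ℤ} (hx : ∀ i j, ∑ c, x i c * x j c = if i = j then 4 else 0)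
    (hy : ∀ i j, ∑ c, y i c * y j c = if i = j then 4 else 0)
    (hxy : ∀ i j, ∑ c, x i c * y j c = 1) (hxd : ∀ c, ∑ i, x i c = d c) (hyd : ∀ c, ∑ i, y i c = d c)
    (h0 : ∀ c, d c ≠ 0) (h8 : 8 ≤ Fintype.card ι) : ∀ c, Odd (d c) := by
  classical
  have hdd := sum_dd hx hxd
  have hpos : ∀ c, 1 ≤ d c * d c := fun c => by
    have := mul_self_pos.2 (h0 c)
    omega
  have hpos4 : ∀ c, Even (d c) → 4 ≤ d c * d c := by
    rintro c ⟨r, hr⟩
    have h1 := h0 c
    have h2 : r ≠ 0 := by
      rintro rfl
      exact h1 (by rw [hr]; rfl)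
    have h3 := mul_self_pos.2 h2
    rw [hr]
    nlinarith
  set E := Finset.univ.filter (fun c => Even (d c)) with hE
  have hsplit := Finset.sum_filter_add_sum_filter_not Finset.univ (fun c => Even (d c)) (fun c => d c * d c)
  rw [hdd, ← hE] at hsplit
  have hcard := Finset.card_filter_add_card_filter_not (s := (Finset.univ : Finset ι)) (fun c => Even (d c))
  rw [← hE, Finset.card_univ] at hcard
  have hO : ((Finset.univ.filter (fun c => ¬ Even (d c))).card : ℤ) ≤ ∑ c ∈ Finset.univ.filter (fun c => ¬ Even (d c)), d c * d c := by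
    have h := Finset.card_nsmul_le_sum (Finset.univ.filter (fun c => ¬ Even (d c))) (fun c => d c * d c) 1 fun c _ => hpos c
    simpa using h
  have hEs : 4 * (E.card : ℤ) ≤ ∑ c ∈ E, d c * d c := by
    have h := Finset.card_nsmul_le_sum E (fun c => d c * d c) 4 fun c hc => hpos4 c (Finset.mem_filter.1 hc).2
    rw [nsmul_eq_mul] at h
    linarith
  have hE2 : E.card ≤ 2 := by
    have : (E.card : ℤ) + ((Finset.univ.filter (fun c => ¬ Even (d c))).card : ℤ) = (Fintype.card ι : ℤ) := by exact_mod_cast hcard
    have h8' : (8 : ℤ) ≤ Fintype.card ι := by exact_mod_cast h8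
    have : (E.card : ℤ) ≤ 2 := by omega
    exact_mod_cast this
  intro c0
  by_contra hc0
  rw [Int.not_odd_iff_even] at hc0
  have hmem : c0 ∈ E := Finset.mem_filter.2 ⟨Finset.mem_univ _, hc0⟩
  have hE1 : 1 ≤ E.card := Finset.card_pos.2 ⟨c0, hmem⟩
  rcases (show E.card = 1 ∨ E.card = 2 by omega) with h1 | h2
  · -- one even coordinate
    obtain ⟨e, he⟩ := Finset.card_eq_one.1 h1
    have h3 : ∀ i, x i e = 0 := by
      intro i
      have h4 := even_sum hx hxd i
      rw [← hE, he, Finset.sum_singleton] at h4
      rcases entry_le hx hxy i e with h | h | h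
      · exact h
      · rw [h] at h4
        exact absurd h4 (by decide)
      · rw [h] at h4
        exact absurd h4 (by decide)
    exact h0 e (by rw [← hxd e]; exact Finset.sum_eq_zero fun i _ => h3 i)
  · obtain ⟨e, f, hef, hEq⟩ := Finset.card_eq_two.1 h2
    have heE : Even (d e) := (Finset.mem_filter.1 (show e ∈ E by rw [hEq]; simp)).2
    have hfE : Even (d f) := (Finset.mem_filter.1 (show f ∈ E by rw [hEq]; simp)).2
    have h4e := hpos4 e heE
    have h4f := hpos4 f hfE
    rw [hEq, Finset.sum_pair hef] at hsplit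
    have hOc : (6 : ℤ) ≤ ((Finset.univ.filter (fun c => ¬ Even (d c))).card : ℤ) := by
      have : 6 ≤ (Finset.univ.filter (fun c => ¬ Even (d c))).card := by omega
      exact_mod_cast this
    -- the values
    have hval : ∀ z : ℤ, Even z → z * z ≤ 6 → z ≠ 0 → z = 2 ∨ z = -2 := by
      rintro z ⟨r, hr⟩ h5 h6
      have h7 : z ≤ 2 := by nlinarith
      have h8 : -2 ≤ z := by nlinarith
      omega
    have hve := hval (d e) heE (by linarith) (h0 e)
    have hvf := hval (d f) hfE (by linarith) (h0 f)
    have h4e' : d e * d e = 4 := by rcases hve with h | h <;> rw [h] <;> norm_num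
    have h4f' : d f * d f = 4 := by rcases hvf with h | h <;> rw [h] <;> norm_num
    have hodd : ∀ c, c ≠ e → c ≠ f → d c = 1 ∨ d c = -1 := by
      intro c hce hcf
      have hcO : c ∈ Finset.univ.filter (fun c => ¬ Even (d c)) := by
        rw [Finset.mem_filter]
        refine ⟨Finset.mem_univ _, fun h => ?_⟩
        have : c ∈ E := Finset.mem_filter.2 ⟨Finset.mem_univ _, h⟩
        rw [hEq, Finset.mem_insert, Finset.mem_singleton] at this
        exact this.elim hce hcf
      have h5 : ((Finset.univ.filter (fun c => ¬ Even (d c))).erase c).card • (1 : ℤ) ≤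
          ∑ c ∈ (Finset.univ.filter (fun c => ¬ Even (d c))).erase c, d c * d c :=
        Finset.card_nsmul_le_sum _ _ 1 fun c _ => hpos c
      have h6 := Finset.add_sum_erase _ (fun c => d c * d c) hcO
      rw [Finset.card_erase_of_mem hcO] at h5
      have h7 : (5 : ℤ) ≤ (((Finset.univ.filter (fun c => ¬ Even (d c))).card - 1 : ℕ) : ℤ) := by
        have : 5 ≤ (Finset.univ.filter (fun c => ¬ Even (d c))).card - 1 := by omega
        exact_mod_cast this
      rw [nsmul_eq_mul, mul_one] at h5
      have h8 : d c * d c ≤ 3 := by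
        linarith
      have h9 : d c ≤ 1 := by nlinarith
      have h10 : -1 ≤ d c := by nlinarith
      have := h0 c
      omega
    have hX := two_even hx hxy hxd hef (hE.symm.trans hEq) hve hvf hodd
    have hyx : ∀ i j, ∑ c, y i c * x j c = 1 := fun i j => by
      rw [← hxy j i]
      exact Finset.sum_congr rfl fun c _ => mul_comm _ _
    have hY := two_even hy hyx hyd hef (hE.symm.trans hEq) hve hvf hodd
    -- two indices
    have hsum : ∑ i, d e * x i e = 4 := by rw [← Finset.mul_sum, hxd e, h4e']
    obtain ⟨a, b, hab, ha, hb⟩ : ∃ a b : Fin 4, a ≠ b ∧ d e * x a e = 2 ∧ d e * x b e = 2 := by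
      by_contra hcon
      push Not at hcon
      have h5 : ∀ a b : Fin 4, a ≠ b → d e * x a e = 2 → d e * x b e = 0 := fun a b h h' =>
        ((hX b).2).resolve_right (hcon a b h h')
      rw [Fin.sum_univ_four] at hsum
      have g0 := (hX 0).2
      have g1 := (hX 1).2
      have g2 := (hX 2).2
      have g3 := (hX 3).2
      rcases g0 with g0 | g0
      · rcases g1 with g1 | g1
        · rcases g2 with g2 | g2
          · omega
          · have := h5 2 3 (by decide) g2
            omega
        · have := h5 1 2 (by decide) g1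
          have := h5 1 3 (by decide) g1
          omega
      · have := h5 0 1 (by decide) g0
        have := h5 0 2 (by decide) g0
        have := h5 0 3 (by decide) g0
        omega
    -- the sum of the two vectors vanishes elsewhere
    have hnorm : ∑ c, (x a c + x b c) * (x a c + x b c) = 8 := by
      have h5 : ∀ c, (x a c + x b c) * (x a c + x b c) = x a c * x a c + x a c * x b c + x b c * x a c + x b c * x b c := fun c => by ring
      rw [Finset.sum_congr rfl fun c _ => h5 c, Finset.sum_add_distrib, Finset.sum_add_distrib, Finset.sum_add_distrib, hx, hx, hx, hx,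
        if_pos rfl, if_pos rfl, if_neg hab, if_neg hab.symm]
      norm_num
    have hae : ∀ z u v : ℤ, (z = 2 ∨ z = -2) → z * u = 2 → z * v = 2 → z * (u + v) = 4 ∧ (u + v) * (u + v) = 4 := by
      rintro z u v (rfl | rfl) h1 h2
      · have : u = 1 := by omega
        have : v = 1 := by omega
        subst u v
        exact ⟨by norm_num, by norm_num⟩
      · have : u = -1 := by omega
        have : v = -1 := by omega
        subst u v
        exact ⟨by norm_num, by norm_num⟩
    have hfe := hae (d e) _ _ hve ha hb
    have hff := hae (d f) _ _ hvf ((hX a).1.symm.trans ha) ((hX b).1.symm.trans hb)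
    have hz : ∀ c, c ≠ e → c ≠ f → x a c + x b c = 0 := by
      intro c hce hcf
      have h5 : (x a e + x b e) * (x a e + x b e) + ((x a f + x b f) * (x a f + x b f) + (x a c + x b c) * (x a c + x b c)) ≤ 8 := by
        rw [← hnorm]
        have h6 := Finset.sum_le_sum_of_subset_of_nonneg (f := fun c => (x a c + x b c) * (x a c + x b c))
          (Finset.subset_univ ({e, f, c} : Finset ι)) fun _ _ _ => mul_self_nonneg _
        rw [Finset.sum_insert (by simp [hef, hce.symm]), Finset.sum_insert (by simp [hcf.symm]), Finset.sum_singleton] at h6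
        exact h6
      rw [hfe.2, hff.2] at h5
      have h6 : (x a c + x b c) * (x a c + x b c) = 0 := le_antisymm (by linarith) (mul_self_nonneg _)
      exact mul_self_eq_zero.1 h6
    have hp : ∑ c, (x a c + x b c) * y 0 c = 2 := by
      have h5 : ∀ c, (x a c + x b c) * y 0 c = x a c * y 0 c + x b c * y 0 c := fun c => by ring
      rw [Finset.sum_congr rfl fun c _ => h5 c, Finset.sum_add_distrib, hxy, hxy]
      norm_num
    have hp' : ∑ c, (x a c + x b c) * y 0 c = (x a e + x b e) * y 0 e + (x a f + x b f) * y 0 f := by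
      rw [← Finset.sum_pair (f := fun c => (x a c + x b c) * y 0 c) hef]
      refine (Finset.sum_subset (Finset.subset_univ _) fun c _ hc => ?_).symm
      rw [Finset.mem_insert, Finset.mem_singleton, not_or] at hc
      rw [hz c hc.1 hc.2, zero_mul]
    rw [hp'] at hp
    have hy1 := (hY 0).1
    have hy2 := (hY 0).2
    have hfe1 := hfe.1
    have hff1 := hff.1
    generalize x a e + x b e = A at hp hfe1
    generalize x a f + x b f = B at hp hff1
    generalize y 0 e = u at hp hy1 hy2
    generalize y 0 f = v at hp hy1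
    generalize d e = z at hve hfe1 hy1 hy2
    generalize d f = w at hvf hff1 hy1
    rcases hve with rfl | rfl <;> rcases hvf with rfl | rfl
    · have : A = 2 := by omega
      have : B = 2 := by omega
      subst A B
      omega
    · have : A = 2 := by omega
      have : B = -2 := by omega
      subst A B
      omega
    · have : A = -2 := by omega
      have : B = 2 := by omega
      subst A B
      omega
    · have : A = -2 := by omega
      have : B = -2 := by omega
      subst A B
      omega

end Cfsg.Agent.H603.DX
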