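import Cfsg.Agent.H603.DX.Int
import Mathlib.RingTheory.Coprime.Basic
import Mathlib.Tactic.FinCases
import Mathlib.Tactic.LinearCombination

/-!
# The linear algebra of the case `E = 3 x 3`, `D = 2 ^ 4` (helper603, for S4577; mathematics of helper696)

`d` the column of the mixed involutions (norm 16), `c 0, c 1, c 2` and `c' 0, c' 1, c' 2` the columns of the involutions of `D1`, `D2`
(Gram matrix `4 (I + J)`), `s = c 0 + c 1 + c 2`; the star construction gives `s s^T = d d^T` modulo 4. Then all entries of `d` are odd.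
-/

set_option autoImplicit false

namespace Cfsg.Agent.H603.DX

variable {ι : Type*} [Fintype ι]

/-- the four orthogonal vectors of norm 4 -/
theorem exists_four {d : ι → ℤ} {c : Fin 3 → ι → ℤ} (hd : ∑ a, d a * d a = 16)
    (hc : ∀ i j, ∑ a, c i a * c j a = if i = j then 8 else 4) (hcd : ∀ i, ∑ a, c i a * d a = 0)
    (hs : ∀ a b, (4 : ℤ) ∣ (∑ i, c i a) * (∑ i, c i b) - d a * d b) (h1 : ∃ a, Odd (d a)) :
    ∃ (e : ℤ) (w : ι → ℤ) (x : Fin 4 → ι → ℤ), (e = 1 ∨ e = -1) ∧ (∀ a, 4 * w a = d a - e * ∑ i, c i a) ∧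
      (∀ a, x 3 a = w a) ∧ (∀ a, x 0 a = e * c 0 a + w a) ∧ (∀ a, x 1 a = e * c 1 a + w a) ∧ (∀ a, x 2 a = e * c 2 a + w a) ∧
      (∀ i j, ∑ a, x i a * x j a = if i = j then 4 else 0) ∧ ∀ a, ∑ i, x i a = d a := by
  obtain ⟨b, hb⟩ := h1
  obtain ⟨e, he, hev⟩ : ∃ e : ℤ, (e = 1 ∨ e = -1) ∧ (4 : ℤ) ∣ d b - e * ∑ i, c i b := by
    have h2 := hs b b
    generalize ∑ i, c i b = s at h2 ⊢
    generalize d b = z at hb h2 ⊢
    obtain ⟨r, rfl⟩ := hb
    obtain ⟨t, ht⟩ := h2
    have h3 : Odd s := by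
      rcases Int.even_or_odd s with ⟨q, hq⟩ | h
      · exfalso
        rw [hq] at ht
        have h4 : 4 * (q * q - r * r - r - t) = 1 := by linarith
        omega
      · exact h
    obtain ⟨q, rfl⟩ := h3
    by_cases h4 : (4 : ℤ) ∣ (2 * r + 1) - (2 * q + 1)
    · exact ⟨1, Or.inl rfl, by rwa [one_mul]⟩
    · refine ⟨-1, Or.inr rfl, ?_⟩
      omega
  have hall : ∀ a, (4 : ℤ) ∣ d a - e * ∑ i, c i a := by
    intro a
    have h2 := hs a b
    generalize ∑ i, c i b = s at h2 hev
    generalize ∑ i, c i a = t at h2 ⊢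
    generalize d b = z at hb h2 hev
    generalize d a = y at h2 ⊢
    obtain ⟨r, hr⟩ := hev
    obtain ⟨u, hu⟩ := h2
    -- `t s = y z`, `z = e s` modulo 4, `z` odd
    have h3 : z * (y - e * t) = 4 * (-u - e * t * r) + (1 - e * e) * (t * s) := by
      have h4 : z = e * s + 4 * r := by linarith
      have h5 : z * y = t * s - 4 * u := by linarith
      calc z * (y - e * t) = z * y - e * t * z := by ring
        _ = (t * s - 4 * u) - e * t * (e * s + 4 * r) := by rw [h5, h4]
        _ = _ := by ring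
    have h4 : e * e = 1 := by rcases he with rfl | rfl <;> norm_num
    rw [h4, sub_self, zero_mul, add_zero] at h3
    have h5 : (4 : ℤ) ∣ z * (y - e * t) := ⟨_, h3⟩
    have h6 : IsCoprime (4 : ℤ) z := by
      obtain ⟨q, rfl⟩ := hb
      rcases Int.even_or_odd q with ⟨v, rfl⟩ | ⟨v, rfl⟩
      · exact ⟨-v, 1, by ring⟩
      · exact ⟨v + 1, -1, by ring⟩
    exact h6.dvd_of_dvd_mul_left h5
  choose w hw using hall
  have hee : e * e = 1 := by rcases he with rfl | rfl <;> norm_num
  have hscd : ∑ a, (∑ i, c i a) * d a = 0 := by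
    have : ∑ a, (∑ i, c i a) * d a = ∑ i, ∑ a, c i a * d a := by
      rw [Finset.sum_comm]
      exact Finset.sum_congr rfl fun a _ => Finset.sum_mul _ _ _
    rw [this]
    simp [hcd]
  have hsc : ∀ j, ∑ a, c j a * (∑ i, c i a) = 16 := by
    intro j
    have : ∑ a, c j a * (∑ i, c i a) = ∑ i, ∑ a, c j a * c i a := by
      rw [Finset.sum_comm]
      exact Finset.sum_congr rfl fun a _ => Finset.mul_sum _ _ _
    rw [this]
    simp only [hc]
    fin_cases j <;> simp [Fin.sum_univ_three]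
  have hss : ∑ a, (∑ i, c i a) * (∑ i, c i a) = 48 := by
    have : ∑ a, (∑ i, c i a) * (∑ i, c i a) = ∑ j, ∑ a, c j a * (∑ i, c i a) := by
      rw [Finset.sum_comm]
      exact Finset.sum_congr rfl fun a _ => Finset.sum_mul _ _ _
    rw [this]
    simp [hsc]
  have hww : ∑ a, w a * w a = 4 := by
    have h2 : ∑ a, (4 * w a) * (4 * w a) = 64 := by
      have h3 : ∀ a, (4 * w a) * (4 * w a) = d a * d a - 2 * e * ((∑ i, c i a) * d a) + e * e * ((∑ i, c i a) * (∑ i, c i a)) :=
        fun a => by rw [← hw a]; ring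
      rw [Finset.sum_congr rfl fun a _ => h3 a, Finset.sum_add_distrib, Finset.sum_sub_distrib, ← Finset.mul_sum, ← Finset.mul_sum,
        hd, hscd, hss, hee]
      norm_num
    have h3 : ∀ a, (4 * w a) * (4 * w a) = 16 * (w a * w a) := fun a => by ring
    rw [Finset.sum_congr rfl fun a _ => h3 a, ← Finset.mul_sum] at h2
    linarith
  have hcw : ∀ j, ∑ a, c j a * w a = -4 * e := by
    intro j
    have h2 : ∑ a, c j a * (4 * w a) = -16 * e := by
      have h3 : ∀ a, c j a * (4 * w a) = c j a * d a - e * (c j a * ∑ i, c i a) := fun a => by rw [← hw a]; ring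
      rw [Finset.sum_congr rfl fun a _ => h3 a, Finset.sum_sub_distrib, ← Finset.mul_sum, hcd, hsc]
      ring
    have h3 : ∀ a, c j a * (4 * w a) = 4 * (c j a * w a) := fun a => by ring
    rw [Finset.sum_congr rfl fun a _ => h3 a, ← Finset.mul_sum] at h2
    linarith
  have g1 : ∀ i j, ∑ a, (e * c i a + w a) * (e * c j a + w a) = if i = j then 4 else 0 := by
    intro i j
    have h3 : ∀ a, (e * c i a + w a) * (e * c j a + w a) = e * e * (c i a * c j a) + e * (c i a * w a) + e * (c j a * w a) + w a * w a :=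
      fun a => by ring
    rw [Finset.sum_congr rfl fun a _ => h3 a, Finset.sum_add_distrib, Finset.sum_add_distrib, Finset.sum_add_distrib, ← Finset.mul_sum,
      ← Finset.mul_sum, ← Finset.mul_sum, hc, hcw, hcw, hww, hee]
    have h4 : e * (-4 * e) = -4 := by linear_combination -4 * hee
    rw [h4]
    split_ifs <;> norm_num
  have g2 : ∀ i, ∑ a, (e * c i a + w a) * w a = 0 := by
    intro i
    have h3 : ∀ a, (e * c i a + w a) * w a = e * (c i a * w a) + w a * w a := fun a => by ring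
    rw [Finset.sum_congr rfl fun a _ => h3 a, Finset.sum_add_distrib, ← Finset.mul_sum, hcw, hww]
    linear_combination -4 * hee
  have g3 : ∀ i, ∑ a, w a * (e * c i a + w a) = 0 := fun i => by
    rw [← g2 i]
    exact Finset.sum_congr rfl fun a _ => mul_comm _ _
  refine ⟨e, w, ![fun a => e * c 0 a + w a, fun a => e * c 1 a + w a, fun a => e * c 2 a + w a, w], he, fun a => ?_, fun _ => rfl,
    fun _ => rfl, fun _ => rfl, fun _ => rfl, ?_, ?_⟩
  · rw [← hw a]
  · intro i j
    have q01 := g1 0 1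
    have q02 := g1 0 2
    have q10 := g1 1 0
    have q12 := g1 1 2
    have q20 := g1 2 0
    have q21 := g1 2 1
    rw [if_neg (by decide)] at q01 q02 q10 q12 q20 q21
    have q00 := g1 0 0
    have q11 := g1 1 1
    have q22 := g1 2 2
    rw [if_pos rfl] at q00 q11 q22
    fin_cases i <;> fin_cases j
    · exact q00
    · exact q01
    · exact q02
    · exact g2 0
    · exact q10
    · exact q11
    · exact q12
    · exact g2 1
    · exact q20
    · exact q21
    · exact q22
    · exact g2 2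
    · exact g3 0
    · exact g3 1
    · exact g3 2
    · exact hww
  · intro a
    rw [Fin.sum_univ_four]
    change (e * c 0 a + w a) + (e * c 1 a + w a) + (e * c 2 a + w a) + w a = d a
    have h2 := hw a
    rw [Fin.sum_univ_three] at h2
    linear_combination -h2

/-- **The columns of a block with `D = 2 ^ 4`, `E = 3 x 3`.** -/
theorem star_end {d : ι → ℤ} {c c' : Fin 3 → ι → ℤ} (hd : ∑ a, d a * d a = 16)
    (hc : ∀ i j, ∑ a, c i a * c j a = if i = j then 8 else 4) (hc' : ∀ i j, ∑ a, c' i a * c' j a = if i = j then 8 else 4)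
    (hcd : ∀ i, ∑ a, c i a * d a = 0) (hcd' : ∀ i, ∑ a, c' i a * d a = 0) (hcc : ∀ i j, ∑ a, c i a * c' j a = 0)
    (hs : ∀ a b, (4 : ℤ) ∣ (∑ i, c i a) * (∑ i, c i b) - d a * d b)
    (hs' : ∀ a b, (4 : ℤ) ∣ (∑ i, c' i a) * (∑ i, c' i b) - d a * d b) (h1 : ∃ a, Odd (d a)) (h0 : ∀ a, d a ≠ 0)
    (h8 : 8 ≤ Fintype.card ι) : ∀ a, Odd (d a) := by
  obtain ⟨e, w, x, he, hw, hx3, hx0, hx1, hx2, hx, hxd⟩ := exists_four hd hc hcd hs h1
  obtain ⟨e', w', y, he', hw', hy3, hy0, hy1, hy2, hy, hyd⟩ := exists_four hd hc' hcd' hs' h1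
  have k1 : ∀ i, ∑ a, c i a * (∑ j, c' j a) = 0 := by
    intro i
    have : ∑ a, c i a * (∑ j, c' j a) = ∑ j, ∑ a, c i a * c' j a := by
      rw [Finset.sum_comm]
      exact Finset.sum_congr rfl fun a _ => Finset.mul_sum _ _ _
    rw [this]
    simp [hcc]
  have k2 : ∀ j, ∑ a, (∑ i, c i a) * c' j a = 0 := by
    intro j
    have : ∑ a, (∑ i, c i a) * c' j a = ∑ i, ∑ a, c i a * c' j a := by
      rw [Finset.sum_comm]
      exact Finset.sum_congr rfl fun a _ => Finset.sum_mul _ _ _
    rw [this]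
    simp [hcc]
  have k3 : ∑ a, (∑ i, c i a) * (∑ j, c' j a) = 0 := by
    have : ∑ a, (∑ i, c i a) * (∑ j, c' j a) = ∑ i, ∑ a, c i a * (∑ j, c' j a) := by
      rw [Finset.sum_comm]
      exact Finset.sum_congr rfl fun a _ => Finset.sum_mul _ _ _
    rw [this]
    simp [k1]
  have k4 : ∑ a, (∑ i, c i a) * d a = 0 := by
    have : ∑ a, (∑ i, c i a) * d a = ∑ i, ∑ a, c i a * d a := by
      rw [Finset.sum_comm]
      exact Finset.sum_congr rfl fun a _ => Finset.sum_mul _ _ _
    rw [this]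
    simp [hcd]
  have k4' : ∑ a, d a * (∑ i, c' i a) = 0 := by
    have : ∑ a, d a * (∑ i, c' i a) = ∑ i, ∑ a, c' i a * d a := by
      rw [Finset.sum_comm]
      refine Finset.sum_congr rfl fun a _ => ?_
      rw [Finset.mul_sum]
      exact Finset.sum_congr rfl fun i _ => mul_comm _ _
    rw [this]
    simp [hcd']
  -- products
  have w1 : ∑ a, w a * w' a = 1 := by
    have h3 : ∀ a, 16 * (w a * w' a) = d a * d a - e' * (d a * ∑ i, c' i a) - e * ((∑ i, c i a) * d a) +
        e * e' * ((∑ i, c i a) * ∑ j, c' j a) := fun a => by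
      have e1 : 16 * (w a * w' a) = (4 * w a) * (4 * w' a) := by ring
      rw [e1, hw a, hw' a]
      ring
    have h4 : 16 * ∑ a, w a * w' a = 16 := by
      rw [Finset.mul_sum, Finset.sum_congr rfl fun a _ => h3 a, Finset.sum_add_distrib, Finset.sum_sub_distrib, Finset.sum_sub_distrib,
        ← Finset.mul_sum, ← Finset.mul_sum, ← Finset.mul_sum, hd, k4, k4', k3]
      ring
    linarith
  have w2 : ∀ i, ∑ a, c i a * w' a = 0 := by
    intro i
    have h3 : ∀ a, 4 * (c i a * w' a) = c i a * d a - e' * (c i a * ∑ j, c' j a) := fun a => by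
      have e1 : 4 * (c i a * w' a) = c i a * (4 * w' a) := by ring
      rw [e1, hw' a]
      ring
    have h4 : 4 * ∑ a, c i a * w' a = 0 := by
      rw [Finset.mul_sum, Finset.sum_congr rfl fun a _ => h3 a, Finset.sum_sub_distrib, ← Finset.mul_sum, hcd, k1]
      ring
    linarith
  have w3 : ∀ j, ∑ a, w a * c' j a = 0 := by
    intro j
    have h3 : ∀ a, 4 * (w a * c' j a) = c' j a * d a - e * ((∑ i, c i a) * c' j a) := fun a => by
      have e1 : 4 * (w a * c' j a) = (4 * w a) * c' j a := by ring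
      rw [e1, hw a]
      ring
    have h4 : 4 * ∑ a, w a * c' j a = 0 := by
      rw [Finset.mul_sum, Finset.sum_congr rfl fun a _ => h3 a, Finset.sum_sub_distrib, ← Finset.mul_sum, hcd', k2]
      ring
    linarith
  have p1 : ∀ i j, ∑ a, (e * c i a + w a) * (e' * c' j a + w' a) = 1 := by
    intro i j
    have h3 : ∀ a, (e * c i a + w a) * (e' * c' j a + w' a) = e * e' * (c i a * c' j a) + e * (c i a * w' a) + e' * (w a * c' j a) +
        w a * w' a := fun a => by ring
    rw [Finset.sum_congr rfl fun a _ => h3 a, Finset.sum_add_distrib, Finset.sum_add_distrib, Finset.sum_add_distrib, ← Finset.mul_sum,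
      ← Finset.mul_sum, ← Finset.mul_sum, hcc, w2, w3, w1]
    ring
  have p2 : ∀ i, ∑ a, (e * c i a + w a) * w' a = 1 := by
    intro i
    have h3 : ∀ a, (e * c i a + w a) * w' a = e * (c i a * w' a) + w a * w' a := fun a => by ring
    rw [Finset.sum_congr rfl fun a _ => h3 a, Finset.sum_add_distrib, ← Finset.mul_sum, w2, w1]
    ring
  have p3 : ∀ j, ∑ a, w a * (e' * c' j a + w' a) = 1 := by
    intro j
    have h3 : ∀ a, w a * (e' * c' j a + w' a) = e' * (w a * c' j a) + w a * w' a := fun a => by ring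
    rw [Finset.sum_congr rfl fun a _ => h3 a, Finset.sum_add_distrib, ← Finset.mul_sum, w3, w1]
    ring
  have ex : ∀ i, (∃ k, ∀ a, x i a = e * c k a + w a) ∨ ∀ a, x i a = w a := by
    intro i
    fin_cases i
    · exact Or.inl ⟨0, hx0⟩
    · exact Or.inl ⟨1, hx1⟩
    · exact Or.inl ⟨2, hx2⟩
    · exact Or.inr hx3
  have ey : ∀ i, (∃ k, ∀ a, y i a = e' * c' k a + w' a) ∨ ∀ a, y i a = w' a := by
    intro i
    fin_cases i
    · exact Or.inl ⟨0, hy0⟩
    · exact Or.inl ⟨1, hy1⟩
    · exact Or.inl ⟨2, hy2⟩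
    · exact Or.inr hy3
  have hxy : ∀ i j, ∑ a, x i a * y j a = 1 := by
    intro i j
    rcases ex i with ⟨k, hk⟩ | hk <;> rcases ey j with ⟨l, hl⟩ | hl
    · rw [← p1 k l]
      exact Finset.sum_congr rfl fun a _ => by rw [hk, hl]
    · rw [← p2 k]
      exact Finset.sum_congr rfl fun a _ => by rw [hk, hl]
    · rw [← p3 l]
      exact Finset.sum_congr rfl fun a _ => by rw [hk, hl]
    · rw [← w1]
      exact Finset.sum_congr rfl fun a _ => by rw [hk, hl]
  exact int_end hx hy hxy hxd hyd h0 h8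

end Cfsg.Agent.H603.DX
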